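import Mathlib.Algebra.Azumaya.Basic
import Mathlib.LinearAlgebra.Contraction
import Mathlib.LinearAlgebra.Dual.Lemmas
import Mathlib.RingTheory.Flat.FaithfullyFlat.Basic
import Mathlib.RingTheory.Nakayama
import Mathlib.RingTheory.Flat.Stability

/-! Azumaya algebras: endomorphisms of faithful projectives, base change, tensor products. -/

open scoped TensorProduct
open MulOpposite

namespace Groth.Agent.CSA.Azumaya

theorem exists_dualBasis (R P : Type*) [CommRing R] [AddCommGroup P] [Module R P] [Module.Finite R P]
    [Module.Projective R P] :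
    ∃ (n : ℕ) (p : Fin n → P) (φ : Fin n → Module.Dual R P), ∀ x, ∑ i, φ i x • p i = x := by
  obtain ⟨n, f, g, -, -, hfg⟩ := Module.Finite.exists_comp_eq_id_of_projective R P
  refine ⟨n, fun i => f (Pi.single i 1), fun i => (LinearMap.proj i).comp g, fun x => ?_⟩
  conv_rhs => rw [← LinearMap.id_apply (R := R) x, ← hfg, LinearMap.comp_apply, pi_eq_sum_univ' (g x), map_sum]
  simp

theorem moduleEnd (R P : Type*) [CommRing R] [AddCommGroup P] [Module R P] [Module.Finite R P]
    [Module.Projective R P] [FaithfulSMul R P] : IsAzumaya R (Module.End R P) := by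
  obtain ⟨n, p, φ, hp⟩ := exists_dualBasis R P
  let E : Fin n → Fin n → Module.End R P := fun i j => (φ j).smulRight (p i)
  have hE : ∀ T : Module.End R P, ∑ i, ∑ l, φ i (T (p l)) • E i l = T := fun T => LinearMap.ext fun x => by
    simp only [E, LinearMap.sum_apply, LinearMap.smul_apply, LinearMap.smulRight_apply, ← mul_smul]
    rw [Finset.sum_comm]
    conv_rhs => rw [← hp x, map_sum]
    refine Finset.sum_congr rfl fun l _ => ?_
    rw [map_smul]
    conv_rhs => rw [← hp (T (p l)), Finset.smul_sum]
    exact Finset.sum_congr rfl fun i _ => by rw [← mul_smul, mul_comm]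
  have hEE : ∀ (f : Module.End R P) i j k l, E i j * f * E k l = φ j (f (p k)) • E i l := fun f i j k l =>
    LinearMap.ext fun x => by
      simp only [E, Module.End.mul_apply, LinearMap.smulRight_apply, map_smul, smul_eq_mul, LinearMap.smul_apply, mul_smul]
      exact smul_comm _ _ _
  let inv : Module.End R (Module.End R P) →ₗ[R] Module.End R P ⊗[R] (Module.End R P)ᵐᵒᵖ :=
    { toFun := fun F => ∑ i, ∑ j, ∑ k, ∑ l, φ i (F (E j k) (p l)) • (E i j ⊗ₜ[R] op (E k l))
      map_add' := fun F G => by simp [add_smul, Finset.sum_add_distrib]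
      map_smul' := fun r F => by simp [mul_smul, Finset.smul_sum] }
  have : Module.Projective R (Module.End R P) := .of_equiv (dualTensorHomEquiv R P P)
  have : Module.Finite R (Module.End R P) := .equiv (dualTensorHomEquiv R P P)
  refine { eq_of_smul_eq_smul := fun {a b} h => eq_of_smul_eq_smul fun x : P => ?_
           toFinite := inferInstance
           bij := Function.bijective_iff_has_inverse.mpr ⟨inv, fun z => ?_, fun F => ?_⟩ }
  · simpa using LinearMap.congr_fun (h (1 : Module.End R P)) x
  · induction z using TensorProduct.induction_on with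
    | zero => rw [map_zero, map_zero]
    | add x y hx hy => rw [map_add, map_add, hx, hy]
    | tmul f g =>
      obtain ⟨g, rfl⟩ := op_surjective g
      conv_rhs => rw [← hE f, ← hE g]
      show ∑ i, ∑ j, ∑ k, ∑ l, φ i ((AlgHom.mulLeftRight R _ (f ⊗ₜ[R] op g)) (E j k) (p l)) •
        (E i j ⊗ₜ[R] op (E k l)) = _
      simp only [Finset.op_sum, TensorProduct.sum_tmul]
      simp only [TensorProduct.tmul_sum, AlgHom.mulLeftRight_apply, unop_op]
      refine Finset.sum_congr rfl fun i _ => Finset.sum_congr rfl fun j _ => Finset.sum_congr rfl fun k _ =>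
        Finset.sum_congr rfl fun l _ => ?_
      simp [E, TensorProduct.smul_tmul', TensorProduct.tmul_smul, ← mul_smul, mul_comm]
  · refine LinearMap.ext fun h => ?_
    show AlgHom.mulLeftRight R _ (∑ i, ∑ j, ∑ k, ∑ l, φ i (F (E j k) (p l)) • (E i j ⊗ₜ[R] op (E k l))) h = F h
    simp only [map_sum, map_smul, LinearMap.sum_apply, LinearMap.smul_apply, AlgHom.mulLeftRight_apply, unop_op, hEE]
    conv_rhs => rw [← hE h]
    simp only [map_sum, map_smul]
    calc ∑ i, ∑ j, ∑ k, ∑ l, φ i (F (E j k) (p l)) • φ j (h (p k)) • E i l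
        = ∑ j, ∑ k, φ j (h (p k)) • ∑ i, ∑ l, φ i (F (E j k) (p l)) • E i l := by
          rw [Finset.sum_comm]
          refine Finset.sum_congr rfl fun j _ => ?_
          rw [Finset.sum_comm]
          refine Finset.sum_congr rfl fun k _ => ?_
          simp only [Finset.smul_sum]
          exact Finset.sum_congr rfl fun i _ => Finset.sum_congr rfl fun l _ => smul_comm _ _ _
      _ = _ := by simp only [hE]

theorem faithfullyFlat (R A : Type*) [CommRing R] [AddCommGroup A] [Module R A] [Module.Finite R A]
    [Module.Projective R A] [FaithfulSMul R A] : Module.FaithfullyFlat R A where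
  submodule_ne_top m hm h := by
    obtain ⟨r, hr, hr0⟩ := Submodule.exists_sub_one_mem_and_smul_eq_zero_of_fg_of_le_smul m ⊤
      Module.Finite.fg_top (le_of_eq h.symm)
    have : r = 0 := eq_of_smul_eq_smul fun x : A => by rw [hr0 x trivial, zero_smul]
    subst this
    exact hm.ne_top ((Ideal.eq_top_iff_one _).mpr (by simpa using neg_mem hr))

theorem baseChange (R S A : Type*) [CommRing R] [CommRing S] [Algebra R S] [Ring A] [Algebra R A]
    [IsAzumaya R A] : IsAzumaya S (S ⊗[R] A) := by
  obtain ⟨n, p, φ, hp⟩ := exists_dualBasis R A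
  have hb := IsAzumaya.AlgHom.mulLeftRight_bij R A
  let X := (S ⊗[R] A) ⊗[S] (S ⊗[R] A)ᵐᵒᵖ
  let ι : A ⊗[R] Aᵐᵒᵖ →ₗ[R] X := TensorProduct.lift
    (LinearMap.mk₂ R (fun a b => ((1 : S) ⊗ₜ[R] a) ⊗ₜ[S] op ((1 : S) ⊗ₜ[R] unop b))
      (fun a a' b => by rw [TensorProduct.tmul_add, TensorProduct.add_tmul])
      (fun r a b => by rw [TensorProduct.tmul_smul, ← IsScalarTower.algebraMap_smul S r, ← TensorProduct.smul_tmul', IsScalarTower.algebraMap_smul])
      (fun a b b' => by rw [unop_add, TensorProduct.tmul_add, op_add, TensorProduct.tmul_add])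
      (fun r a b => by rw [unop_smul, TensorProduct.tmul_smul, op_smul, TensorProduct.tmul_smul]))
  let e := LinearEquiv.ofBijective (AlgHom.mulLeftRight R A).toLinearMap hb
  have hι : ∀ z, AlgHom.mulLeftRight S (S ⊗[R] A) (ι z) = (AlgHom.mulLeftRight R A z).baseChange S := by
    intro z
    induction z using TensorProduct.induction_on with
    | zero => simp
    | add x y hx hy => rw [map_add, map_add, hx, hy, map_add, LinearMap.baseChange_add]
    | tmul a b =>
      refine TensorProduct.AlgebraTensorModule.ext fun s x => ?_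
      simp [ι]
  let ψ : Fin n → (S ⊗[R] A) →ₗ[S] S := fun i =>
    (TensorProduct.AlgebraTensorModule.rid R S S).toLinearMap.comp ((φ i).baseChange S)
  have hψ : ∀ i s x, ψ i (s ⊗ₜ[R] x) = φ i x • s := fun i s x => by simp [ψ]
  have hψsum : ∀ y, ∑ i, ψ i y • ((1 : S) ⊗ₜ[R] p i) = y := by
    intro y
    induction y using TensorProduct.induction_on with
    | zero => simp
    | add x y hx hy => simp [add_smul, Finset.sum_add_distrib, hx, hy]
    | tmul s x =>
      conv_rhs => rw [← hp x, TensorProduct.tmul_sum]
      refine Finset.sum_congr rfl fun i _ => ?_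
      rw [hψ, TensorProduct.smul_tmul', smul_eq_mul, mul_one, TensorProduct.smul_tmul]
  let g : Fin n → Fin n → A →ₗ[R] A := fun i j => (φ i).smulRight (p j)
  let inv : Module.End S (S ⊗[R] A) →ₗ[S] X :=
    { toFun := fun F => ∑ i, ∑ j, ψ j (F ((1 : S) ⊗ₜ[R] p i)) • ι (e.symm (g i j))
      map_add' := fun F G => by simp [add_smul, Finset.sum_add_distrib]
      map_smul' := fun r F => by simp [mul_smul, Finset.smul_sum] }
  have hleft : ∀ z, inv (AlgHom.mulLeftRight S (S ⊗[R] A) (ι z)) = ι z := by
    intro z
    rw [hι]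
    set f := AlgHom.mulLeftRight R A z
    show ∑ i, ∑ j, ψ j (f.baseChange S ((1 : S) ⊗ₜ[R] p i)) • ι (e.symm (g i j)) = ι z
    have hsum : ∑ i, ∑ j, φ j (f (p i)) • g i j = f := LinearMap.ext fun x => by
      simp only [g, LinearMap.sum_apply, LinearMap.smul_apply, LinearMap.smulRight_apply]
      conv_rhs => rw [← hp x, map_sum]
      refine Finset.sum_congr rfl fun i _ => ?_
      rw [map_smul]
      conv_rhs => rw [← hp (f (p i)), Finset.smul_sum]
      exact Finset.sum_congr rfl fun j _ => smul_comm _ _ _
    have hz : z = ∑ i, ∑ j, φ j (f (p i)) • e.symm (g i j) := by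
      simp only [← map_smul, ← map_sum, hsum]
      exact (e.symm_apply_apply z).symm
    conv_rhs => rw [hz]
    simp only [map_sum, map_smul, LinearMap.baseChange_tmul, hψ, smul_assoc, one_smul]
  have := faithfullyFlat R A
  refine { eq_of_smul_eq_smul := fun {a b} h => ?_
           bij := Function.bijective_iff_has_inverse.mpr ⟨inv, fun x => ?_, fun F => ?_⟩ }
  · have h1 := h (1 : S ⊗[R] A)
    rw [Algebra.TensorProduct.one_def, TensorProduct.smul_tmul', TensorProduct.smul_tmul', smul_eq_mul,
      smul_eq_mul, mul_one, mul_one] at h1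
    by_contra hne
    have hflat : Function.Injective ((Algebra.linearMap R A).lTensor S) := by
      have := Module.FaithfullyFlat.lTensor_injective_iff_injective R A ((Algebra.linearMap R A).lTensor S)
      refine this.mp ?_
      -- retraction after tensoring with `A`, given by multiplication in `A`
      let r : A ⊗[R] (S ⊗[R] A) →ₗ[R] A ⊗[R] (S ⊗[R] R) :=
        (TensorProduct.congr (LinearEquiv.refl R A) (TensorProduct.rid R S).symm).toLinearMap ∘ₗ
          (TensorProduct.comm R S A).toLinearMap ∘ₗ (LinearMap.mul' R A).lTensor S ∘ₗ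
            (TensorProduct.leftComm R A S A).toLinearMap
      have hr : r ∘ₗ ((Algebra.linearMap R A).lTensor S).lTensor A = LinearMap.id := by
        ext a s
        simp [r]
      exact fun x y hxy => by
        simpa only [← LinearMap.comp_apply, hr, LinearMap.id_apply] using congrArg r hxy
    have := @hflat (a ⊗ₜ[R] 1) (b ⊗ₜ[R] 1) (by simpa using h1)
    exact hne (by simpa using congrArg (TensorProduct.rid R S) this)
  · induction x using TensorProduct.induction_on with
    | zero => simp
    | add x y hx hy => rw [map_add, map_add, hx, hy]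
    | tmul u v =>
      obtain ⟨v, rfl⟩ := op_surjective v
      induction u using TensorProduct.induction_on with
      | zero => simp
      | add x y hx hy => rw [TensorProduct.add_tmul, map_add, map_add, hx, hy]
      | tmul s a =>
        induction v using TensorProduct.induction_on with
        | zero => simp
        | add x y hx hy => rw [op_add, TensorProduct.tmul_add, map_add, map_add, hx, hy]
        | tmul t b =>
          have h1 : (s ⊗ₜ[R] a : S ⊗[R] A) ⊗ₜ[S] op (t ⊗ₜ[R] b) = (t * s) • ι (a ⊗ₜ[R] op b) := by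
            simp only [ι, TensorProduct.lift.tmul, LinearMap.mk₂_apply, unop_op]
            rw [mul_smul, TensorProduct.smul_tmul', ← TensorProduct.tmul_smul, ← op_smul, TensorProduct.smul_tmul',
              TensorProduct.smul_tmul', smul_eq_mul, smul_eq_mul, mul_one, mul_one]
          rw [h1, map_smul, map_smul, hleft]
  · refine TensorProduct.AlgebraTensorModule.ext fun s x => ?_
    show AlgHom.mulLeftRight S (S ⊗[R] A) (∑ i, ∑ j, ψ j (F ((1 : S) ⊗ₜ[R] p i)) • ι (e.symm (g i j))) (s ⊗ₜ[R] x) = F (s ⊗ₜ[R] x)
    simp only [map_sum, map_smul, hι, LinearMap.sum_apply, LinearMap.smul_apply]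
    have hg : ∀ i j, AlgHom.mulLeftRight R A (e.symm (g i j)) = g i j := fun i j => e.apply_symm_apply (g i j)
    simp only [hg, LinearMap.baseChange_tmul]
    have hs : s ⊗ₜ[R] x = ∑ i, (φ i x • s) • ((1 : S) ⊗ₜ[R] p i) := by
      simp only [← hψ]; exact (hψsum _).symm
    conv_rhs => rw [hs, map_sum]
    refine Finset.sum_congr rfl fun i _ => ?_
    rw [map_smul]
    conv_rhs => rw [← hψsum (F ((1 : S) ⊗ₜ[R] p i)), Finset.smul_sum]
    refine Finset.sum_congr rfl fun j _ => ?_
    simp only [g, LinearMap.smulRight_apply, TensorProduct.smul_tmul', smul_eq_mul, mul_one, TensorProduct.tmul_smul]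
    congr 1
    rw [mul_comm, smul_mul_assoc]

theorem tensorProduct (R A B : Type*) [CommRing R] [Ring A] [Algebra R A] [IsAzumaya R A]
    [Ring B] [Algebra R B] [IsAzumaya R B] : IsAzumaya R (A ⊗[R] B) := by
  let eA := LinearEquiv.ofBijective (AlgHom.mulLeftRight R A).toLinearMap (IsAzumaya.AlgHom.mulLeftRight_bij R A)
  let eB := LinearEquiv.ofBijective (AlgHom.mulLeftRight R B).toLinearMap (IsAzumaya.AlgHom.mulLeftRight_bij R B)
  have hA : ∀ z, eA z = AlgHom.mulLeftRight R A z := fun _ => rfl
  have hB : ∀ z, eB z = AlgHom.mulLeftRight R B z := fun _ => rfl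
  let e1 : (A ⊗[R] B) ⊗[R] (A ⊗[R] B)ᵐᵒᵖ ≃ₗ[R] (A ⊗[R] Aᵐᵒᵖ) ⊗[R] (B ⊗[R] Bᵐᵒᵖ) :=
    (TensorProduct.congr (LinearEquiv.refl R _) ((opLinearEquiv R).symm.trans
      (TensorProduct.congr (opLinearEquiv R) (opLinearEquiv R)))).trans
      (TensorProduct.tensorTensorTensorComm R A B Aᵐᵒᵖ Bᵐᵒᵖ)
  let E := e1.trans ((TensorProduct.congr eA eB).trans (homTensorHomEquiv R A B A B))
  have hE : ∀ z, AlgHom.mulLeftRight R (A ⊗[R] B) z = E z := by
    intro z
    induction z using TensorProduct.induction_on with
    | zero => simp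
    | add x y hx hy => rw [map_add, map_add, hx, hy]
    | tmul u v =>
      obtain ⟨v, rfl⟩ := op_surjective v
      induction u using TensorProduct.induction_on with
      | zero => simp
      | add x y hx hy => rw [TensorProduct.add_tmul, map_add, map_add, hx, hy]
      | tmul a b =>
        induction v using TensorProduct.induction_on with
        | zero => simp
        | add x y hx hy => rw [op_add, TensorProduct.tmul_add, map_add, map_add, hx, hy]
        | tmul a' b' =>
          refine TensorProduct.ext' fun x y => ?_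
          simp [E, e1, hA, hB, homTensorHomEquiv_apply]
  refine { eq_of_smul_eq_smul := fun {a b} h => ?_
           bij := by rw [show ⇑(AlgHom.mulLeftRight R (A ⊗[R] B)) = ⇑E from funext hE]; exact E.bijective }
  have h1 := fun y : B => h ((1 : A) ⊗ₜ[R] y)
  have hinj : Function.Injective (Algebra.TensorProduct.includeRight : B →ₐ[R] A ⊗[R] B) :=
    Algebra.TensorProduct.includeRight_injective (FaithfulSMul.algebraMap_injective R A)
  refine eq_of_smul_eq_smul fun y : B => hinj ?_
  simp only [map_smul]
  exact h1 y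

end Groth.Agent.CSA.Azumaya
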