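import Mathlib
import Groth.Agent.CSA.Azumaya

/-! Descent of the Azumaya property along base change. -/

open scoped TensorProduct
open MulOpposite

namespace Groth.Agent.CSA.AzumayaDescent

universe u v w

/-- The comparison `S ⊗ End B → End_S (S ⊗ B)` is injective for finite projective `B`. -/
theorem baseChangeEnd_injective (R S B : Type*) [CommRing R] [CommRing S] [Algebra R S] [AddCommGroup B]
    [Module R B] [Module.Finite R B] [Module.Projective R B] :
    Function.Injective ((LinearMap.baseChangeHom R S B B).liftBaseChange S) := by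
  obtain ⟨n, p, φ, hp⟩ := Azumaya.exists_dualBasis R B
  let ψ : Fin n → (S ⊗[R] B) →ₗ[S] S := fun i =>
    (TensorProduct.AlgebraTensorModule.rid R S S).toLinearMap.comp (LinearMap.baseChange S (φ i))
  let g : Fin n → Fin n → B →ₗ[R] B := fun i j => (φ i).smulRight (p j)
  let inv : Module.End S (S ⊗[R] B) →ₗ[S] S ⊗[R] Module.End R B :=
    { toFun := fun F => ∑ i, ∑ j, ψ j (F ((1 : S) ⊗ₜ[R] p i)) • ((1 : S) ⊗ₜ[R] g i j)
      map_add' := fun F G => by simp [add_smul, Finset.sum_add_distrib]
      map_smul' := fun r F => by simp [mul_smul, Finset.smul_sum] }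
  refine Function.LeftInverse.injective (g := inv) fun z => ?_
  induction z using TensorProduct.induction_on with
  | zero => simp
  | add x y hx hy => rw [map_add, map_add, hx, hy]
  | tmul s f =>
    have hsum : ∑ i, ∑ j, φ j (f (p i)) • g i j = f := LinearMap.ext fun x => by
      simp only [g, LinearMap.sum_apply, LinearMap.smul_apply, LinearMap.smulRight_apply]
      conv_rhs => rw [← hp x, map_sum]
      refine Finset.sum_congr rfl fun i _ => ?_
      rw [map_smul]
      conv_rhs => rw [← hp (f (p i)), Finset.smul_sum]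
      exact Finset.sum_congr rfl fun j _ => smul_comm _ _ _
    conv_rhs => rw [← hsum]
    simp only [TensorProduct.tmul_sum, TensorProduct.tmul_smul]
    show ∑ i, ∑ j, ψ j (((LinearMap.baseChangeHom R S B B).liftBaseChange S (s ⊗ₜ[R] f)) ((1 : S) ⊗ₜ[R] p i)) •
      ((1 : S) ⊗ₜ[R] g i j) = _
    refine Finset.sum_congr rfl fun i _ => Finset.sum_congr rfl fun j _ => ?_
    simp [ψ, TensorProduct.smul_tmul', mul_comm]

theorem lTensor_mulLeftRight_bijective (R S B : Type*) [CommRing R] [CommRing S] [Algebra R S] [Ring B]
    [Algebra R B] [Module.Finite R B] [Module.Projective R B] [IsAzumaya S (S ⊗[R] B)] :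
    Function.Bijective ((AlgHom.mulLeftRight R B).toLinearMap.lTensor S) := by
  let M := AlgHom.mulLeftRight R B
  let Φ := (LinearMap.baseChangeHom R S B B).liftBaseChange S
  let e : S ⊗[R] Bᵐᵒᵖ ≃ₗ[S] (S ⊗[R] B)ᵐᵒᵖ :=
    (TensorProduct.AlgebraTensorModule.congr (LinearEquiv.refl S S) (MulOpposite.opLinearEquiv R).symm) ≪≫ₗ
      MulOpposite.opLinearEquiv S
  let Θ := TensorProduct.AlgebraTensorModule.distribBaseChange R S B Bᵐᵒᵖ ≪≫ₗ
    TensorProduct.congr (LinearEquiv.refl S (S ⊗[R] B)) e
  have key : ∀ z, AlgHom.mulLeftRight S (S ⊗[R] B) (Θ z) = Φ (M.toLinearMap.lTensor S z) := by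
    intro z
    induction z using TensorProduct.induction_on with
    | zero => simp
    | add x y hx hy => rw [map_add, map_add, hx, hy, map_add, map_add]
    | tmul s y =>
      induction y using TensorProduct.induction_on with
      | zero => simp
      | add x y hx hy => rw [TensorProduct.tmul_add, map_add, map_add, hx, hy, map_add, map_add]
      | tmul a b =>
        obtain ⟨b, rfl⟩ := op_surjective b
        refine TensorProduct.AlgebraTensorModule.ext fun t x => ?_
        simp [Θ, e, Φ, M, TensorProduct.smul_tmul']
  have hinj : Function.Injective (M.toLinearMap.lTensor S) := fun x y h => by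
    apply Θ.injective
    apply (IsAzumaya.AlgHom.mulLeftRight_bij S (S ⊗[R] B)).1
    rw [key, key, h]
  refine ⟨hinj, fun y => ?_⟩
  obtain ⟨w, hw⟩ := (IsAzumaya.AlgHom.mulLeftRight_bij S (S ⊗[R] B)).2 (Φ y)
  refine ⟨Θ.symm w, baseChangeEnd_injective R S B ?_⟩
  show Φ _ = Φ _
  rw [← key, Θ.apply_symm_apply, hw]

theorem finitePresentation_descend (R S B : Type*) [CommRing R] [CommRing S] [Algebra R S] [Module.FaithfullyFlat R S]
    [AddCommGroup B] [Module R B] [Module.Finite R B] [Module.FinitePresentation S (S ⊗[R] B)] :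
    Module.FinitePresentation R B := by
  obtain ⟨n, f, hf⟩ := Module.Finite.exists_fin' R B
  refine Module.finitePresentation_of_surjective f hf ?_
  rw [← Module.Finite.iff_fg]
  let K := LinearMap.ker f
  have hi : Function.Injective (K.subtype.baseChange S) :=
    Module.Flat.lTensor_preserves_injective_linearMap _ K.injective_subtype
  have hk : LinearMap.range (K.subtype.baseChange S) = LinearMap.ker (f.baseChange S) := by
    ext x
    exact ((lTensor_exact S (LinearMap.exact_subtype_ker_map f) hf) x).symm
  have hfg : (LinearMap.ker (f.baseChange S)).FG := Module.FinitePresentation.fg_ker _ (LinearMap.lTensor_surjective S hf)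
  rw [← hk, ← Module.Finite.iff_fg] at hfg
  have : Module.Finite S (S ⊗[R] K) := Module.Finite.equiv (LinearEquiv.ofInjective _ hi).symm
  exact Module.Finite.of_finite_tensorProduct_of_faithfullyFlat S

theorem of_faithfullyFlat (R : Type u) [CommRing R] (S : Type v) [CommRing S] [Algebra R S]
    [Module.FaithfullyFlat R S] (B : Type w) [Ring B] [Algebra R B] [IsAzumaya S (S ⊗[R] B)] : IsAzumaya R B := by
  have : Module.Finite R B := Module.Finite.of_finite_tensorProduct_of_faithfullyFlat S
  have : Module.Flat R B := Module.Flat.of_flat_tensorProduct R B S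
  have : Module.FinitePresentation S (S ⊗[R] B) := Module.finitePresentation_of_projective S _
  have : Module.FinitePresentation R B := finitePresentation_descend R S B
  have : Module.Projective R B := Module.Flat.projective_of_finitePresentation
  have hbij := lTensor_mulLeftRight_bijective R S B
  refine { eq_of_smul_eq_smul := fun {a b} h => ?_
           bij := (Module.FaithfullyFlat.lTensor_bijective_iff_bijective R S _).1 hbij }
  refine FaithfulSMul.algebraMap_injective R S (eq_of_smul_eq_smul (α := S ⊗[R] B) fun z => ?_)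
  simp only [algebraMap_smul]
  induction z using TensorProduct.induction_on with
  | zero => simp
  | add x y hx hy => rw [smul_add, smul_add, hx, hy]
  | tmul s x => rw [← TensorProduct.tmul_smul, ← TensorProduct.tmul_smul, h x]

theorem subsingleton_of_comap_surjective (R S N : Type*) [CommRing R] [CommRing S] [Algebra R S]
    (hS : Function.Surjective (PrimeSpectrum.comap (algebraMap R S))) [AddCommGroup N] [Module R N]
    [Module.Finite R N] [Subsingleton (S ⊗[R] N)] : Subsingleton N := by
  by_contra hN
  rw [not_subsingleton_iff_nontrivial] at hN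
  obtain ⟨P, hP, -⟩ := (eq_top_or_exists_le_coatom (⊥ : Submodule R N)).resolve_left bot_ne_top
  have : IsSimpleModule R (N ⧸ P) := isSimpleModule_iff_isCoatom.2 hP
  obtain ⟨m, hm, ⟨e⟩⟩ := isSimpleModule_iff_quot_maximal.1 this
  obtain ⟨q, hq⟩ := hS ⟨m, hm.isPrime⟩
  let f : N →ₗ[R] S ⧸ q.asIdeal :=
    (Submodule.liftQ m ((Algebra.linearMap R (S ⧸ q.asIdeal))) (fun r hr => by
      have hr' : algebraMap R S r ∈ q.asIdeal := by
        have := congrArg PrimeSpectrum.asIdeal hq
        rw [← show q.asIdeal.comap (algebraMap R S) = m from this] at hr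
        exact hr
      rw [LinearMap.mem_ker, Algebra.linearMap_apply, IsScalarTower.algebraMap_apply R S (S ⧸ q.asIdeal)]
      exact Ideal.Quotient.eq_zero_iff_mem.2 hr')) ∘ₗ e.toLinearMap ∘ₗ P.mkQ
  obtain ⟨x, hx⟩ := (e.surjective.comp P.mkQ_surjective) (Submodule.Quotient.mk 1)
  have hfx : f x = 1 := by
    simp only [f, LinearMap.comp_apply, LinearEquiv.coe_coe]
    rw [show e (P.mkQ x) = Submodule.Quotient.mk 1 from hx, Submodule.liftQ_apply]
    simp
  have h0 := congrArg (LinearMap.liftBaseChange S f) (Subsingleton.elim ((1 : S) ⊗ₜ[R] x) 0)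
  rw [LinearMap.liftBaseChange_tmul, one_smul, map_zero, hfx] at h0
  exact one_ne_zero h0

theorem of_comap_surjective (R : Type u) [CommRing R] (S : Type v) [CommRing S] [Algebra R S]
    (hS : Function.Surjective (PrimeSpectrum.comap (algebraMap R S)))
    (B : Type w) [Ring B] [Algebra R B] [Module.Finite R B] [Module.Projective R B]
    [IsAzumaya S (S ⊗[R] B)] : IsAzumaya R B := by
  have := Azumaya.faithfullyFlat S (S ⊗[R] B)
  have hff : Module.FaithfullyFlat R B := by
    refine ⟨fun m hm h => ?_⟩
    obtain ⟨q, hq⟩ := hS ⟨m, hm.isPrime⟩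
    obtain ⟨Q, hQ, hqQ⟩ := q.asIdeal.exists_le_maximal q.isPrime.ne_top
    refine this.submodule_ne_top hQ (Submodule.eq_top_iff'.2 fun z => ?_)
    induction z using TensorProduct.induction_on with
    | zero => exact zero_mem _
    | add x y hx hy => exact add_mem hx hy
    | tmul s b =>
      have hb : b ∈ m • (⊤ : Submodule R B) := by rw [h]; trivial
      refine Submodule.smul_induction_on hb (fun r hr x _ => ?_) (fun x y hx hy => by rw [TensorProduct.tmul_add]; exact add_mem hx hy)
      rw [TensorProduct.tmul_smul, ← algebraMap_smul S r]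
      refine Submodule.smul_mem_smul (hqQ ?_) trivial
      have := congrArg PrimeSpectrum.asIdeal hq
      rw [← show q.asIdeal.comap (algebraMap R S) = m from this] at hr
      exact hr
  have hbij := lTensor_mulLeftRight_bijective R S B
  let M : B ⊗[R] Bᵐᵒᵖ →ₗ[R] Module.End R B := (AlgHom.mulLeftRight R B).toLinearMap
  have : Module.Finite R Bᵐᵒᵖ := Module.Finite.equiv (MulOpposite.opLinearEquiv R)
  have : Module.Projective R (Module.End R B) := .of_equiv (dualTensorHomEquiv R B B)
  have : Module.Finite R (Module.End R B) := .equiv (dualTensorHomEquiv R B B)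
  have hsurj : Function.Surjective M := by
    rw [← LinearMap.range_eq_top]
    by_contra hne
    have : Subsingleton (S ⊗[R] (Module.End R B ⧸ LinearMap.range M)) := by
      refine subsingleton_of_forall_eq 0 fun z => ?_
      obtain ⟨w, rfl⟩ := LinearMap.lTensor_surjective S (LinearMap.range M).mkQ_surjective z
      obtain ⟨v, rfl⟩ := hbij.2 w
      rw [← LinearMap.comp_apply, ← LinearMap.lTensor_comp, show (LinearMap.range M).mkQ ∘ₗ
        (AlgHom.mulLeftRight R B).toLinearMap = 0 from LinearMap.range_mkQ_comp M]
      simp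
    have := subsingleton_of_comap_surjective R S (Module.End R B ⧸ LinearMap.range M) hS
    exact hne (Submodule.Quotient.subsingleton_iff.1 this)
  obtain ⟨s, hs⟩ := Module.projective_lifting_property M LinearMap.id hsurj
  have hK : Subsingleton (LinearMap.ker M) := by
    let π : B ⊗[R] Bᵐᵒᵖ →ₗ[R] LinearMap.ker M := (LinearMap.id - s ∘ₗ M).codRestrict _ fun x => by
      rw [LinearMap.mem_ker, LinearMap.sub_apply, map_sub, LinearMap.comp_apply, show M (s (M x)) = M x from DFunLike.congr_fun hs (M x)]
      simp
    have hπ : π ∘ₗ (LinearMap.ker M).subtype = LinearMap.id := by ext x; simp [π, LinearMap.mem_ker.1 x.2]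
    have : Module.Finite R (LinearMap.ker M) := Module.Finite.of_surjective π fun x => ⟨x, DFunLike.congr_fun hπ x⟩
    have : Subsingleton (S ⊗[R] LinearMap.ker M) := by
      refine subsingleton_of_forall_eq 0 fun z => ?_
      have h0 : M.lTensor S ((LinearMap.ker M).subtype.lTensor S z) = 0 := by
        rw [← LinearMap.comp_apply, ← LinearMap.lTensor_comp, LinearMap.comp_ker_subtype]; simp
      have h1 : (LinearMap.ker M).subtype.lTensor S z = 0 := hbij.1 (h0.trans (map_zero _).symm)
      have := congrArg (π.lTensor S) h1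
      rwa [← LinearMap.comp_apply, ← LinearMap.lTensor_comp, hπ, LinearMap.lTensor_id, map_zero] at this
    exact subsingleton_of_comap_surjective R S (LinearMap.ker M) hS
  refine { eq_of_smul_eq_smul := fun {a b} h => ?_
           bij := ⟨LinearMap.ker_eq_bot.1 (Submodule.subsingleton_iff_eq_bot.1 hK), hsurj⟩ }
  have h0 : LinearMap.lsmul R R (a - b) = 0 := by
    refine (Module.FaithfullyFlat.zero_iff_lTensor_zero R B _).2 ?_
    refine TensorProduct.ext' fun x r => ?_
    simp only [LinearMap.lTensor_tmul, LinearMap.lsmul_apply, TensorProduct.tmul_smul, LinearMap.zero_apply,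
      TensorProduct.smul_tmul']
    rw [sub_smul, h x, sub_self, TensorProduct.zero_tmul]
  simpa [sub_eq_zero] using DFunLike.congr_fun h0 (1 : R)

end Groth.Agent.CSA.AzumayaDescent
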