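import Mathlib.LinearAlgebra.Matrix.ToLin
import Mathlib.RingTheory.SimpleModule.WedderburnArtin
import Mathlib.LinearAlgebra.Dimension.Constructions
import Mathlib.LinearAlgebra.FiniteDimensional.Basic
import Mathlib.RingTheory.MatrixAlgebra

/-! Uniqueness of the division algebra and of the size in Wedderburn's theorem. -/

namespace Groth.Agent.CSA.MatrixUnique

open Matrix

variable {k : Type*} [Field k] {D D' : Type*} [DivisionRing D] [DivisionRing D'] [Algebra k D] [Algebra k D']
  {ι κ : Type*} [Fintype ι] [Fintype κ] [DecidableEq ι] [DecidableEq κ]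

/-- matrix with column `i₀` equal to `v` -/
def col (i₀ : ι) (v : ι → D) : Matrix ι ι D := Matrix.of fun i j => if j = i₀ then v i else 0

theorem col_mulVec (i₀ : ι) (v w : ι → D) : col i₀ v *ᵥ w = fun i => v i * w i₀ := by
  ext i
  simp [col, Matrix.mulVec, dotProduct, ite_mul]

theorem mul_col (i₀ : ι) (A : Matrix ι ι D) (v : ι → D) : A * col i₀ v = col i₀ (A *ᵥ v) := by
  ext i j
  by_cases h : j = i₀ <;> simp [col, Matrix.mul_apply, Matrix.mulVec, dotProduct, h]

theorem commutant (i₀ : ι) (f : (ι → D) → (ι → D)) (hf : ∀ (A : Matrix ι ι D) v, f (A *ᵥ v) = A *ᵥ f v) :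
    ∀ v, f v = fun i => v i * f (Pi.single i₀ 1) i₀ := by
  intro v
  have e : col i₀ v *ᵥ (Pi.single i₀ 1) = v := by rw [col_mulVec]; simp
  calc f v = f (col i₀ v *ᵥ Pi.single i₀ 1) := by rw [e]
    _ = _ := by rw [hf, col_mulVec]

theorem exists_mulVec {v : ι → D} (hv : v ≠ 0) (z : ι → D) : ∃ B : Matrix ι ι D, B *ᵥ v = z := by
  obtain ⟨j, hj⟩ := Function.ne_iff.mp hv
  exact ⟨col j fun i => z i * (v j)⁻¹, by rw [col_mulVec]; ext i; simp [mul_assoc, inv_mul_cancel₀ hj]⟩

/-- Uniqueness in Wedderburn's theorem. -/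
theorem unique [Nonempty ι] [Nonempty κ] [FiniteDimensional k D] [FiniteDimensional k D']
    (φ : Matrix ι ι D ≃ₐ[k] Matrix κ κ D') :
    Nonempty (D ≃ₐ[k] D') ∧ Fintype.card ι = Fintype.card κ := by
  obtain ⟨i₀⟩ := ‹Nonempty ι›
  obtain ⟨j₀⟩ := ‹Nonempty κ›
  obtain ⟨w, hw⟩ : ∃ w, φ (col i₀ (Pi.single i₀ 1)) *ᵥ w ≠ 0 := by
    by_contra! h
    have h0 : φ (col i₀ (Pi.single i₀ 1)) = 0 := by
      ext i j
      have := congrFun (h (Pi.single j 1)) i
      simpa [Matrix.mulVec_single] using this
    have := congrFun (congrFun (φ.map_eq_zero_iff.mp h0) i₀) i₀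
    simp [col] at this
  have hadd : ∀ a b : ι → D, col i₀ (a + b) = col i₀ a + col i₀ b := fun a b => by
    ext i j; by_cases h : j = i₀ <;> simp [col, h]
  have hsmul : ∀ (c : k) (a : ι → D), col i₀ (c • a) = c • col i₀ a := fun c a => by
    ext i j; by_cases h : j = i₀ <;> simp [col, h]
  let g : (ι → D) →ₗ[k] (κ → D') :=
    { toFun := fun v => φ (col i₀ v) *ᵥ w
      map_add' := fun a b => by rw [hadd, map_add, Matrix.add_mulVec]
      map_smul' := fun c a => by rw [hsmul, map_smul, Matrix.smul_mulVec, RingHom.id_apply] }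
  have heq : ∀ A v, g (A *ᵥ v) = φ A *ᵥ g v := fun A v => by
    show φ (col i₀ (A *ᵥ v)) *ᵥ w = φ A *ᵥ (φ (col i₀ v) *ᵥ w)
    rw [← mul_col, map_mul, Matrix.mulVec_mulVec]
  have hinj : Function.Injective g := (injective_iff_map_eq_zero g).mpr fun v hv => by
    by_contra hne
    obtain ⟨B, hB⟩ := exists_mulVec hne (Pi.single i₀ 1)
    apply hw
    show g (Pi.single i₀ 1) = 0
    rw [← hB, heq, hv, Matrix.mulVec_zero]
  have hsurj : Function.Surjective g := fun z => by
    obtain ⟨B, hB⟩ := exists_mulVec hw z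
    exact ⟨φ.symm B *ᵥ Pi.single i₀ 1, by rw [heq, φ.apply_symm_apply]; exact hB⟩
  let G := LinearEquiv.ofBijective g ⟨hinj, hsurj⟩
  have hG : ∀ v, G v = g v := fun _ => rfl
  let θ : D → D' := fun d => g (fun i => G.symm (Pi.single j₀ 1) i * d) j₀
  have key : ∀ (d : D) (v : ι → D), g (fun i => v i * d) = fun j => g v j * θ d := fun d v => by
    have h := commutant j₀ (fun z => g (fun i => G.symm z i * d)) (fun B z => by
      have e : G.symm (B *ᵥ z) = φ.symm B *ᵥ G.symm z := by
        rw [LinearEquiv.symm_apply_eq, hG, heq, φ.apply_symm_apply, ← hG, G.apply_symm_apply]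
      show g (fun i => G.symm (B *ᵥ z) i * d) = B *ᵥ g fun i => G.symm z i * d
      have e2 : (fun i => G.symm (B *ᵥ z) i * d) = φ.symm B *ᵥ fun i => G.symm z i * d := by
        rw [e]; ext i; simp [Matrix.mulVec, dotProduct, Finset.sum_mul, mul_assoc]
      rw [e2, heq, φ.apply_symm_apply]) (g v)
    simpa [θ, ← hG] using h
  have hext : ∀ x y : D', (∀ (v : ι → D) (j : κ), g v j * x = g v j * y) → x = y := fun x y h => by
    obtain ⟨v, hv⟩ := hsurj (Pi.single j₀ 1)
    simpa [hv] using h v j₀
  let Θ : D →ₐ[k] D' :=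
    { toFun := θ
      map_one' := hext _ _ fun v j => by
        rw [← congrFun (key 1 v) j, mul_one, show (fun i => v i * 1) = v from funext fun i => mul_one _]
      map_mul' := fun a b => hext _ _ fun v j => by
        rw [← congrFun (key (a * b) v) j, ← mul_assoc, ← congrFun (key a v) j, ← congrFun (key b _) j]
        simp [mul_assoc]
      map_zero' := hext _ _ fun v j => by
        rw [← congrFun (key 0 v) j, mul_zero, show (fun i => v i * (0 : D)) = 0 from funext fun i => mul_zero _, map_zero]
        rfl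
      map_add' := fun a b => hext _ _ fun v j => by
        rw [← congrFun (key (a + b) v) j, mul_add, ← congrFun (key a v) j, ← congrFun (key b v) j,
          show (fun i => v i * (a + b)) = (fun i => v i * a) + (fun i => v i * b) from funext fun i => mul_add _ _ _, map_add]
        rfl
      commutes' := fun r => hext _ _ fun v j => by
        show g v j * θ (algebraMap k D r) = _
        rw [← congrFun (key (algebraMap k D r) v) j,
          show (fun i => v i * algebraMap k D r) = r • v from funext fun i => by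
            rw [← Algebra.commutes, ← Algebra.smul_def]; rfl, map_smul, ← Algebra.commutes, ← Algebra.smul_def]
        rfl }
  have hθsurj : Function.Surjective Θ := fun d' => by
    have h := commutant i₀ (fun v => G.symm (fun j => g v j * d')) (fun A v => by
      show G.symm (fun j => g (A *ᵥ v) j * d') = A *ᵥ G.symm fun j => g v j * d'
      rw [LinearEquiv.symm_apply_eq, hG, heq, heq, ← hG (G.symm _), G.apply_symm_apply]
      ext j; simp [Matrix.mulVec, dotProduct, Finset.sum_mul, mul_assoc])
    refine ⟨G.symm (fun j => g (Pi.single i₀ 1) j * d') i₀, hext _ d' fun v j => ?_⟩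
    show g v j * θ _ = _
    have h' : G.symm (fun j => g v j * d') =
        fun i => v i * G.symm (fun j => g (Pi.single i₀ 1) j * d') i₀ := h v
    rw [← congrFun (key _ v) j, ← h', ← hG, G.apply_symm_apply]
  let E := AlgEquiv.ofBijective Θ ⟨Θ.toRingHom.injective, hθsurj⟩
  refine ⟨⟨E⟩, ?_⟩
  have h1 := G.finrank_eq
  rw [Module.finrank_pi_fintype, Module.finrank_pi_fintype] at h1
  simp only [Finset.sum_const, Finset.card_univ, smul_eq_mul, E.toLinearEquiv.finrank_eq] at h1
  exact Nat.eq_of_mul_eq_mul_right Module.finrank_pos h1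

end Groth.Agent.CSA.MatrixUnique
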