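import Mathlib.Algebra.Azumaya.Basic
import Mathlib.RingTheory.SimpleModule.Basic
import Mathlib.RingTheory.SimpleRing.Basic
import Mathlib.RingTheory.TwoSidedIdeal.Operations
import Mathlib.LinearAlgebra.Dimension.Constructions
import Mathlib.LinearAlgebra.FiniteDimensional.Lemmas
import Mathlib.LinearAlgebra.FreeModule.Finite.Matrix
import Mathlib.LinearAlgebra.TensorProduct.Finiteness

/-!
Central simple algebras: `A ⊗ Aᵐᵒᵖ ≃ End A`, Skolem–Noether for automorphisms.
-/

open scoped TensorProduct

namespace Groth.Agent.CSA.Basic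

universe u v

variable (k : Type u) [Field k] (A : Type v) [Ring A] [Algebra k A] [Algebra.IsCentral k A]
  [IsSimpleRing A] [FiniteDimensional k A]

open MulOpposite in
/-- `A ⊗ Aᵐᵒᵖ → End A` is bijective for a finite dimensional central simple algebra. -/
theorem mulLeftRight_bijective : Function.Bijective (AlgHom.mulLeftRight k A) := by
  let T := A ⊗[k] Aᵐᵒᵖ
  let f : T →ₐ[k] Module.End k A := AlgHom.mulLeftRight k A
  let mT : Module T A := Module.compHom A f.toRingHom
  let _ := mT
  have hsm : ∀ (t : T) (x : A), t • x = f t x := fun _ _ => rfl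
  have hlr : ∀ (a : A) (b : Aᵐᵒᵖ) (x : A), (a ⊗ₜ[k] b : T) • x = a * x * b.unop := fun a b x => by
    rw [hsm]; exact AlgHom.mulLeftRight_apply k A a b x
  have hsimple : IsSimpleModule T A := by
    rw [isSimpleModule_iff]
    refine ⟨fun W => ?_⟩
    let I : TwoSidedIdeal A := TwoSidedIdeal.mk' (W : Set A) W.zero_mem W.add_mem W.neg_mem
      (fun {x y} hy => by
        have := W.smul_mem (x ⊗ₜ[k] (1 : Aᵐᵒᵖ)) hy
        rwa [hlr, unop_one, mul_one] at this)
      (fun {x y} hx => by
        have := W.smul_mem ((1 : A) ⊗ₜ[k] op y) hx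
        rwa [hlr, one_mul, unop_op] at this)
    have hI : ∀ x, x ∈ I ↔ x ∈ W := fun x => TwoSidedIdeal.mem_mk' ..
    rcases eq_bot_or_eq_top I with h | h
    · refine Or.inl (eq_bot_iff.mpr fun x hx => ?_)
      have : x ∈ I := (hI x).mpr hx
      rw [h] at this
      exact (Submodule.mem_bot _).mpr ((TwoSidedIdeal.mem_bot _).mp this)
    · refine Or.inr (eq_top_iff.mpr fun x _ => (hI x).mp (h ▸ trivial))
  have hend : ∀ g : Module.End T A, ∃ c : k, ∀ x, g x = c • x := by
    intro g
    have hl : ∀ a x, g (a * x) = a * g x := fun a x => by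
      have := g.map_smul (a ⊗ₜ[k] (1 : Aᵐᵒᵖ)) x
      rwa [hlr, hlr, unop_one, mul_one, mul_one] at this
    have hr : ∀ x b, g (x * b) = g x * b := fun x b => by
      have := g.map_smul ((1 : A) ⊗ₜ[k] op b) x
      rwa [hlr, hlr, unop_op, one_mul, one_mul] at this
    have hc : g 1 ∈ Subalgebra.center k A := by
      rw [Subalgebra.mem_center_iff]
      intro b
      rw [← hl, ← hr, mul_one, one_mul]
    rw [Algebra.IsCentral.center_eq_bot, Algebra.mem_bot] at hc
    obtain ⟨c, hc⟩ := hc
    refine ⟨c, fun x => ?_⟩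
    rw [Algebra.smul_def, hc, ← hr, one_mul]
  have hsurj : Function.Surjective f := by
    intro φ
    let φ' : Module.End (Module.End T A) A :=
      { toFun := φ
        map_add' := φ.map_add
        map_smul' := fun g x => by
          obtain ⟨c, hc⟩ := hend g
          show φ (g x) = g (φ x)
          rw [hc, hc, map_smul] }
    obtain ⟨s, hs⟩ := Module.Finite.fg_top (R := k) (M := A)
    obtain ⟨t, ht⟩ := jacobson_density φ' s
    refine ⟨t, LinearMap.ext fun x => ?_⟩
    induction hs.ge (trivial : x ∈ ⊤) using Submodule.span_induction with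
    | mem x hx => exact (ht x hx).symm
    | zero => simp
    | add _ _ _ _ h₁ h₂ => simp [h₁, h₂]
    | smul c _ _ h => simp [h]
  refine ⟨?_, hsurj⟩
  have hdim : Module.finrank k T = Module.finrank k (Module.End k A) := by
    rw [Module.finrank_tensorProduct, Module.finrank_linearMap, (MulOpposite.opLinearEquiv k).finrank_eq.symm]
  exact (LinearMap.injective_iff_surjective_of_finrank_eq_finrank (f := f.toLinearMap) hdim).mpr hsurj

/-- A central simple algebra is Azumaya. -/
theorem isAzumaya : IsAzumaya k A :=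
  { bij := mulLeftRight_bijective k A
    eq_of_smul_eq_smul := fun {a b} h => by
      have := h (1 : A)
      rw [← Algebra.algebraMap_eq_smul_one, ← Algebra.algebraMap_eq_smul_one] at this
      exact (algebraMap k A).injective this }

/-- Skolem–Noether: every automorphism is inner. -/
theorem skolemNoether (u : A ≃ₐ[k] A) : ∃ a : Aˣ, ∀ x, u x = (a : A) * x * (a⁻¹ : Aˣ) := by
  obtain ⟨hinj, hsurj⟩ := mulLeftRight_bijective k A
  obtain ⟨z, hz⟩ := hsurj u.toLinearMap
  let b := Module.finBasis k A
  obtain ⟨w, hw⟩ : ∃ w : Fin (Module.finrank k A) → A, z = ∑ i, w i ⊗ₜ[k] MulOpposite.op (b i) := by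
    obtain ⟨c, hc⟩ := TensorProduct.eq_repr_basis_right (b.map (MulOpposite.opLinearEquiv k)) z
    refine ⟨fun i => c i, hc.symm.trans ?_⟩
    rw [Finsupp.sum_fintype _ _ (by simp)]
    simp
  have hu : ∀ x, u x = ∑ i, w i * x * b i := fun x => by
    have := LinearMap.congr_fun hz x
    rw [hw, map_sum, LinearMap.sum_apply] at this
    simpa using this.symm
  have key : ∀ x i, u x * w i = w i * x := by
    intro x
    have h : ∑ i, (u x * w i - w i * x) ⊗ₜ[k] MulOpposite.op (b i) = 0 := by
      refine hinj ?_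
      rw [map_zero, map_sum]
      ext y
      simp only [LinearMap.sum_apply, AlgHom.mulLeftRight_apply, MulOpposite.unop_op, sub_mul,
        Finset.sum_sub_distrib, LinearMap.zero_apply, mul_assoc (u x)]
      rw [← Finset.mul_sum, sub_eq_zero]
      calc u x * ∑ i, w i * y * b i = u x * u y := by rw [hu y]
        _ = u (x * y) := (map_mul u x y).symm
        _ = _ := by simp only [hu (x * y), mul_assoc]
    intro i
    let B := b.map (MulOpposite.opLinearEquiv k)
    have h' := congrArg (fun t => TensorProduct.equivFinsuppOfBasisRight B t i) h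
    simpa [B, Finsupp.single_apply, sub_eq_zero] using h'
  obtain ⟨i, hi⟩ : ∃ i, w i ≠ 0 := by
    by_contra! h
    have := hu 1
    simp [h] at this
  -- `w i A` is a two sided ideal, hence everything
  let I : TwoSidedIdeal A := TwoSidedIdeal.mk' (Set.range fun x => w i * x) ⟨0, mul_zero _⟩
    (by rintro _ _ ⟨x, rfl⟩ ⟨y, rfl⟩; exact ⟨x + y, mul_add _ _ _⟩)
    (by rintro _ ⟨x, rfl⟩; exact ⟨-x, mul_neg _ _⟩)
    (by
      rintro a _ ⟨x, rfl⟩
      obtain ⟨a', rfl⟩ := u.surjective a
      exact ⟨a' * x, by show w i * (a' * x) = _; rw [← mul_assoc, ← key, mul_assoc]⟩)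
    (by rintro _ a ⟨x, rfl⟩; exact ⟨x * a, (mul_assoc _ _ _).symm⟩)
  have hItop : I = ⊤ := (eq_bot_or_eq_top I).resolve_left fun h => hi <| by
    have : w i ∈ I := (TwoSidedIdeal.mem_mk' ..).mpr ⟨1, mul_one _⟩
    rw [h] at this
    exact (TwoSidedIdeal.mem_bot _).mp this
  obtain ⟨v, hv⟩ : (1 : A) ∈ Set.range fun x => w i * x :=
    (TwoSidedIdeal.mem_mk' ..).mp (by rw [show _ = (⊤ : TwoSidedIdeal A) from hItop]; trivial : (1 : A) ∈ I)
  replace hv : w i * v = 1 := hv
  have hv' : v * w i = 1 := by
    have hs : Function.Surjective (LinearMap.mulLeft k (w i)) := fun x => ⟨v * x, by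
      show w i * (v * x) = x
      rw [← mul_assoc, hv, one_mul]⟩
    have hj := LinearMap.injective_iff_surjective.mpr hs
    refine hj ?_
    show w i * (v * w i) = w i * 1
    rw [← mul_assoc, hv, one_mul, mul_one]
  refine ⟨⟨w i, v, hv, hv'⟩, fun x => ?_⟩
  show u x = w i * x * v
  rw [← key, mul_assoc, hv, mul_one]

end Groth.Agent.CSA.Basic
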